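import Cfsg.Agent.Lib.KS2.PSL2Spec
import Mathlib

/-!
# Unbounded groups with the spectrum of `SL₂(2^n)` up to divisors of `4`

`G F k = (F²)^k ⋊ SL₂(F)` for `F` of characteristic `2`.  Every element either has order
dividing `4`, or has the order of its image in `SL₂(F)`.
-/

set_option autoImplicit false

namespace Cfsg.Agent.Lib.PrimeGraph

open Matrix
open scoped MatrixGroups

variable (F : Type*) [Field F]

/-- The coordinatewise action of `SL₂(F)` on `(F²)^k`. -/
def act (k : ℕ) : SL(2, F) →* MulAut (Multiplicative (Fin k → Fin 2 → F)) where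
  toFun g :=
    { toFun := fun v => Multiplicative.ofAdd
        (fun i => (g : Matrix (Fin 2) (Fin 2) F).mulVec (Multiplicative.toAdd v i))
      invFun := fun v => Multiplicative.ofAdd
        (fun i => ((g⁻¹ : SL(2, F)) : Matrix (Fin 2) (Fin 2) F).mulVec (Multiplicative.toAdd v i))
      left_inv := fun v => by
        apply Multiplicative.toAdd.injective
        funext i
        simp only [toAdd_ofAdd, Matrix.mulVec_mulVec]
        rw [← Matrix.SpecialLinearGroup.coe_mul, inv_mul_cancel]
        simp
      right_inv := fun v => by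
        apply Multiplicative.toAdd.injective
        funext i
        simp only [toAdd_ofAdd, Matrix.mulVec_mulVec]
        rw [← Matrix.SpecialLinearGroup.coe_mul, mul_inv_cancel]
        simp
      map_mul' := fun v w => by
        apply Multiplicative.toAdd.injective
        funext i
        simp [Matrix.mulVec_add] }
  map_one' := by
    apply MulEquiv.ext
    intro v
    apply Multiplicative.toAdd.injective
    funext i
    show ((1 : SL(2, F)) : Matrix (Fin 2) (Fin 2) F).mulVec (Multiplicative.toAdd v i) = _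
    simp
  map_mul' g h := by
    apply MulEquiv.ext
    intro v
    apply Multiplicative.toAdd.injective
    funext i
    show ((g * h : SL(2, F)) : Matrix (Fin 2) (Fin 2) F).mulVec (Multiplicative.toAdd v i) =
      (g : Matrix (Fin 2) (Fin 2) F).mulVec
        ((h : Matrix (Fin 2) (Fin 2) F).mulVec (Multiplicative.toAdd v i))
    rw [Matrix.mulVec_mulVec, Matrix.SpecialLinearGroup.coe_mul]

/-- The semidirect product `(F²)^k ⋊ SL₂(F)`. -/
abbrev GG (k : ℕ) : Type _ := Multiplicative (Fin k → Fin 2 → F) ⋊[act F k] SL(2, F)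

variable {F}

lemma act_apply (k : ℕ) (g : SL(2, F)) (v : Multiplicative (Fin k → Fin 2 → F)) (i : Fin k) :
    Multiplicative.toAdd (act F k g v) i =
      (g : Matrix (Fin 2) (Fin 2) F).mulVec (Multiplicative.toAdd v i) := rfl

lemma pow_right {k : ℕ} (h : GG F k) (n : ℕ) : (h ^ n).right = h.right ^ n := by
  rw [← SemidirectProduct.rightHom_eq_right, map_pow]

lemma pow_left {k : ℕ} (h : GG F k) (n : ℕ) (i : Fin k) :
    Multiplicative.toAdd (h ^ n).left i =
      (∑ j ∈ Finset.range n, (h.right : Matrix (Fin 2) (Fin 2) F) ^ j).mulVec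
        (Multiplicative.toAdd h.left i) := by
  induction n with
  | zero => 
    simp
  | succ n ih =>
    rw [pow_succ', SemidirectProduct.mul_left, toAdd_mul, Pi.add_apply, act_apply, ih,
      Finset.sum_range_succ', Matrix.add_mulVec, Matrix.mulVec_mulVec, add_comm]
    congr 1
    · congr 1
      rw [Finset.mul_sum]
      apply Finset.sum_congr rfl
      intro j _
      rw [pow_succ']
    · simp

/-- A fixed vector in characteristic `2` forces `g² = 1`. -/
lemma sq_eq_one_of_fix [CharP F 2] (g : SL(2, F)) (u : Fin 2 → F) (hu : u ≠ 0)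
    (hg : (g : Matrix (Fin 2) (Fin 2) F).mulVec u = u) : g ^ 2 = 1 := by
  have hc := Cfsg.Agent.Lib.KS2.SL2.sl2_charpoly g
  set M := (g : Matrix (Fin 2) (Fin 2) F) with hM
  set t := Cfsg.Agent.Lib.KS2.SL2.tr g with ht
  have h2 : (2 : F) = 0 := CharTwo.two_eq_zero
  have h1 : ∀ a, t * u a = 0 := by
    intro a
    have h3 := congrFun (congrArg (fun X : Matrix (Fin 2) (Fin 2) F => X.mulVec u) hc) a
    simp only [Matrix.add_mulVec, Matrix.sub_mulVec, Matrix.zero_mulVec, Pi.add_apply, Pi.sub_apply,
      Pi.zero_apply] at h3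
    have h4 : (M ^ 2).mulVec u = u := by
      rw [sq, ← Matrix.mulVec_mulVec, hg, hg]
    have h5 : (algebraMap F (Matrix (Fin 2) (Fin 2) F) t * M).mulVec u = t • u := by
      rw [← Matrix.mulVec_mulVec, hg, Algebra.algebraMap_eq_smul_one, Matrix.smul_mulVec, Matrix.one_mulVec]
    have h6 : (algebraMap F (Matrix (Fin 2) (Fin 2) F) 1).mulVec u = u := by
      simp
    rw [h4, h5, h6] at h3
    simp only [Pi.smul_apply, smul_eq_mul] at h3
    linear_combination -h3 + u a * h2
  have ht0 : t = 0 := by
    by_contra hne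
    apply hu
    funext a
    exact (mul_eq_zero.1 (h1 a)).resolve_left hne
  rw [ht0] at hc
  apply Subtype.ext
  rw [Matrix.SpecialLinearGroup.coe_pow, Matrix.SpecialLinearGroup.coe_one, ← hM]
  have h7 : M ^ 2 + 1 = 0 := by
    simpa using hc
  ext a b
  have h8 := congrFun (congrFun h7 a) b
  simp only [Matrix.add_apply, Matrix.zero_apply] at h8
  linear_combination h8 - (1 : Matrix (Fin 2) (Fin 2) F) a b * h2

/-- Every element has order dividing `4` or the order of its image in `SL₂`. -/
theorem orderOf_cases {k : ℕ} [CharP F 2] (h : GG F k) :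
    orderOf h ∣ 4 ∨ orderOf h = orderOf h.right := by
  set M := (h.right : Matrix (Fin 2) (Fin 2) F) with hM
  by_cases hg : h.right ^ 2 = 1
  · left
    apply orderOf_dvd_of_pow_eq_one
    have hM2 : M ^ 2 = 1 := by
      have := congrArg (fun x : SL(2, F) => (x : Matrix (Fin 2) (Fin 2) F)) hg
      simpa using this
    apply SemidirectProduct.ext
    · apply Multiplicative.toAdd.injective
      funext i
      rw [pow_left]
      have hsum : (∑ j ∈ Finset.range 4, (h.right : Matrix (Fin 2) (Fin 2) F) ^ j) =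
          (1 + 1) + (M + M) := by
        have h3 : M ^ 3 = M := by rw [pow_succ, hM2, one_mul]
        simp only [Finset.sum_range_succ, Finset.sum_range_zero, pow_zero, pow_one, ← hM, h3, hM2]
        abel
      rw [hsum]
      funext a
      have h2 : (2 : F) = 0 := CharTwo.two_eq_zero
      simp only [Matrix.add_mulVec, Pi.add_apply, Matrix.one_mulVec]
      show _ = (0 : F)
      linear_combination (Multiplicative.toAdd h.left i a + M.mulVec (Multiplicative.toAdd h.left i) a) * h2
    · rw [pow_right]
      show h.right ^ 4 = 1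
      have : h.right ^ 4 = (h.right ^ 2) ^ 2 := by rw [← pow_mul]
      rw [this, hg, one_pow]
  · right
    apply Nat.dvd_antisymm
    · apply orderOf_dvd_of_pow_eq_one
      apply SemidirectProduct.ext
      · apply Multiplicative.toAdd.injective
        funext i
        rw [pow_left]
        set d := orderOf h.right with hd
        have hMd : M ^ d = 1 := by
          rw [hM, ← Matrix.SpecialLinearGroup.coe_pow, hd, pow_orderOf_eq_one,
            Matrix.SpecialLinearGroup.coe_one]
        set S := ∑ j ∈ Finset.range d, M ^ j with hS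
        have hgeom : (M - 1) * S = 0 := by
          rw [hS, mul_geom_sum, hMd, sub_self]
        have hMS : M * S = S := by
          rw [sub_mul, one_mul] at hgeom
          exact sub_eq_zero.1 hgeom
        set w := S.mulVec (Multiplicative.toAdd h.left i) with hw
        have hfix : M.mulVec w = w := by
          rw [hw, Matrix.mulVec_mulVec, hMS]
        by_contra hne
        exact hg (sq_eq_one_of_fix h.right w hne hfix)
      · rw [pow_right, pow_orderOf_eq_one]
        rfl
    · have := orderOf_map_dvd (SemidirectProduct.rightHom : GG F k →* SL(2, F)) h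
      rwa [SemidirectProduct.rightHom_eq_right] at this

/-- Finiteness. -/
instance finiteGG {k : ℕ} [Finite F] : Finite (GG F k) :=
  Finite.of_equiv _ SemidirectProduct.equivProd.symm

lemma lt_card_GG [Finite F] (k : ℕ) : k < Nat.card (GG F k) := by
  classical
  haveI := Fintype.ofFinite F
  have h1 : Nat.card (Multiplicative (Fin k → Fin 2 → F)) ≤ Nat.card (GG F k) :=
    Nat.card_le_card_of_injective _ (SemidirectProduct.inl_injective
      (N := Multiplicative (Fin k → Fin 2 → F)) (G := SL(2, F)) (φ := act F k))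
  have h2 : Nat.card (Multiplicative (Fin k → Fin 2 → F)) = (Fintype.card F ^ 2) ^ k := by
    show Nat.card (Fin k → Fin 2 → F) = _
    simp [Nat.card_eq_fintype_card]
  have h3 : 2 ≤ Fintype.card F := Fintype.one_lt_card
  have h4 : 2 ≤ Fintype.card F ^ 2 := by nlinarith
  have h5 : 2 ^ k ≤ (Fintype.card F ^ 2) ^ k := Nat.pow_le_pow_left h4 k
  have h6 : k < 2 ^ k := Nat.lt_two_pow_self
  omega

/-- A finite group has an isomorphic copy in `Type`. -/
theorem exists_copy {X : Type*} [Group X] [Finite X] :
    ∃ (H : Type) (_ : Group H) (_ : Finite H), Nonempty (H ≃* X) := by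
  let ε : Fin (Nat.card X) ≃ X := (Finite.equivFin X).symm
  letI gH : Group (Fin (Nat.card X)) := ε.group
  exact ⟨Fin (Nat.card X), gH, inferInstance, ⟨ε.mulEquiv⟩⟩

/-- The family of groups, in `Type`. -/
theorem exists_family [Finite F] [CharP F 2] (N : ℕ) :
    ∃ (H : Type) (_ : Group H) (_ : Finite H), N < Nat.card H ∧
      Set.range (orderOf : SL(2, F) → ℕ) ⊆ Set.range (orderOf : H → ℕ) ∧
      Set.range (orderOf : H → ℕ) ⊆ {m : ℕ | m ∣ 4} ∪ Set.range (orderOf : SL(2, F) → ℕ) := by
  obtain ⟨H, gH, fH, ⟨e⟩⟩ := exists_copy (X := GG F N)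
  refine ⟨H, gH, fH, ?_, ?_, ?_⟩
  · rw [Nat.card_congr e.toEquiv]
    exact lt_card_GG N
  · rintro _ ⟨g, rfl⟩
    refine ⟨e.symm (SemidirectProduct.inr g), ?_⟩
    rw [MulEquiv.orderOf_eq]
    exact orderOf_injective _ SemidirectProduct.inr_injective _
  · rintro _ ⟨h, rfl⟩
    rw [← MulEquiv.orderOf_eq e h]
    rcases orderOf_cases (e h) with h1 | h1
    · exact Or.inl h1
    · exact Or.inr ⟨_, h1.symm⟩

/-- In characteristic `2`, `PSL₂` and `SL₂` have the same orders. -/
lemma range_psl [CharP F 2] :
    Set.range (orderOf : Matrix.ProjectiveSpecialLinearGroup (Fin 2) F → ℕ) =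
      Set.range (orderOf : SL(2, F) → ℕ) := by
  have hinj : Function.Injective
      (Cfsg.Agent.Lib.KS2.SL2.pi : SL(2, F) → Matrix.ProjectiveSpecialLinearGroup (Fin 2) F) := by
    rw [injective_iff_map_eq_one]
    intro g hg
    rw [Cfsg.Agent.Lib.KS2.SL2.pi_eq_one_iff] at hg
    exact Cfsg.Agent.Lib.KS2.SL2.scalar_eq_one_char2 g hg
  ext m
  constructor
  · rintro ⟨x, rfl⟩
    obtain ⟨g, rfl⟩ := Cfsg.Agent.Lib.KS2.SL2.pi_surj x
    exact ⟨g, (orderOf_injective _ hinj g).symm⟩
  · rintro ⟨g, rfl⟩
    exact ⟨_, orderOf_injective _ hinj g⟩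

/-- The prime graph is determined by element orders, up to divisors of `4`. -/
theorem same_prime_graph {X Y : Type*} [Group X] [Group Y] [Finite X] [Finite Y]
    (hXY : Set.range (orderOf : X → ℕ) ⊆ Set.range (orderOf : Y → ℕ))
    (hYX : Set.range (orderOf : Y → ℕ) ⊆ {m : ℕ | m ∣ 4} ∪ Set.range (orderOf : X → ℕ))
    (h2 : 2 ∣ Nat.card X) :
    (∀ p : ℕ, p.Prime → (p ∣ Nat.card X ↔ p ∣ Nat.card Y)) ∧
    (∀ p q : ℕ, p.Prime → q.Prime → p ≠ q →
      ((∃ g : X, orderOf g = p * q) ↔ (∃ g : Y, orderOf g = p * q))) := by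
  constructor
  · intro p hp
    haveI : Fact p.Prime := ⟨hp⟩
    constructor
    · intro h
      obtain ⟨x, hx⟩ := exists_prime_orderOf_dvd_card' p h
      obtain ⟨y, hy⟩ := hXY ⟨x, rfl⟩
      rw [← hx, ← hy]
      exact orderOf_dvd_natCard y
    · intro h
      obtain ⟨y, hy⟩ := exists_prime_orderOf_dvd_card' p h
      rcases hYX ⟨y, rfl⟩ with h4 | ⟨x, hx⟩
      · have h4' : orderOf y ∣ 2 ^ 2 := h4
        rw [hy] at h4'
        have := (Nat.prime_dvd_prime_iff_eq hp Nat.prime_two).1 (hp.dvd_of_dvd_pow h4')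
        rwa [this]
      · rw [← hy, ← hx]
        exact orderOf_dvd_natCard x
  · intro p q hp hq hpq
    constructor
    · rintro ⟨x, hx⟩
      obtain ⟨y, hy⟩ := hXY ⟨x, rfl⟩
      exact ⟨y, by rw [hy, hx]⟩
    · rintro ⟨y, hy⟩
      rcases hYX ⟨y, rfl⟩ with h4 | ⟨x, hx⟩
      · exfalso
        have h4' : orderOf y ∣ 2 ^ 2 := h4
        rw [hy] at h4'
        have h5 := (Nat.prime_dvd_prime_iff_eq hp Nat.prime_two).1
          (hp.dvd_of_dvd_pow (dvd_trans (dvd_mul_right p q) h4'))
        have h6 := (Nat.prime_dvd_prime_iff_eq hq Nat.prime_two).1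
          (hq.dvd_of_dvd_pow (dvd_trans (dvd_mul_left q p) h4'))
        exact hpq (h5.trans h6.symm)
      · exact ⟨x, by rw [hx, hy]⟩

end Cfsg.Agent.Lib.PrimeGraph
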